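import Groth.Prelude.Def_NonAbH2
import Mathlib.AlgebraicGeometry.Sites.Fpqc
import Mathlib.CategoryTheory.Monoidal.Cartesian.Grp

/-!
Morphisms descend along maps of schemes over a base that have sections fppf locally; centrality of
extensions when maps trivial on the axes are trivial.
-/

set_option linter.style.haveILetI false
set_option linter.unusedSectionVars false

universe u

open CategoryTheory CategoryTheory.Limits MonoidalCategory CartesianMonoidalCategory AlgebraicGeometry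
open scoped MonObj

namespace GrothLib.GrpExt

variable {S : Scheme.{u}}

/-- The image sieve of `q` is covering. -/
def LocSplit {A B : Over S} (q : A ⟶ B) : Prop :=
  Sieve.generate (Presieve.singleton q.left) ∈ Scheme.fppfTopology.{u} B.left

theorem locSplit_of_locallyTrivial {A B : Over S} (q : A ⟶ B)
    (h : NonAbH1.IsLocallyTrivialFor Scheme.fppfPrecoverage (Over.mk q.left : Over B.left)) : LocSplit q := by
  obtain ⟨R, hR, hs⟩ := h
  refine GrothendieckTopology.superset_covering _ ?_ (Precoverage.generate_mem_toGrothendieck hR)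
  rw [Sieve.generate_le_iff]
  intro Z g hg
  obtain ⟨s, hs'⟩ := hs g hg
  exact ⟨A.left, s, q.left, Presieve.singleton.mk, hs'⟩

theorem locSplit_id (A : Over S) : LocSplit (𝟙 A) := by
  refine GrothendieckTopology.superset_covering _ ?_ (Scheme.fppfTopology.top_mem A.left)
  intro Z g _
  exact ⟨A.left, g, 𝟙 _, Presieve.singleton.mk, Category.comp_id _⟩

theorem locSplit_tensor {A A' B B' : Over S} {p : A ⟶ A'} {q : B ⟶ B'} (hp : LocSplit p) (hq : LocSplit q) :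
    LocSplit (p ⊗ₘ q) := by
  refine GrothendieckTopology.superset_covering _ ?_
    (Scheme.fppfTopology.intersection_covering
      (Scheme.fppfTopology.pullback_stable (fst A' B').left hp)
      (Scheme.fppfTopology.pullback_stable (snd A' B').left hq))
  rintro Z g ⟨⟨_, w₁, _, ⟨⟩, e₁⟩, ⟨_, w₂, _, ⟨⟩, e₂⟩⟩
  let W : Over S := Over.mk (g ≫ (A' ⊗ B').hom)
  let g' : W ⟶ A' ⊗ B' := Over.homMk g
  let a : W ⟶ A := Over.homMk w₁ (by
    show w₁ ≫ A.hom = g ≫ (A' ⊗ B').hom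
    rw [← Over.w p, ← Category.assoc, e₁, Category.assoc, Over.w (fst A' B')])
  let b : W ⟶ B := Over.homMk w₂ (by
    show w₂ ≫ B.hom = g ≫ (A' ⊗ B').hom
    rw [← Over.w q, ← Category.assoc, e₂, Category.assoc, Over.w (snd A' B')])
  have ha : a ≫ p = g' ≫ fst A' B' := Over.OverMorphism.ext e₁
  have hb : b ≫ q = g' ≫ snd A' B' := Over.OverMorphism.ext e₂
  have h : lift a b ≫ (p ⊗ₘ q) = g' := by
    apply CartesianMonoidalCategory.hom_ext <;> simp [ha, hb]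
  exact ⟨(A ⊗ B).left, (lift a b).left, (p ⊗ₘ q).left, Presieve.singleton.mk, congrArg (fun t => t.left) h⟩

/-- Maps descend uniquely along a locally split map. -/
theorem existsUnique_desc {A B : Over S} {q : A ⟶ B} (hq : LocSplit q) {T : Over S} (c : A ⟶ T)
    (hc : ∀ (W : Over S) (a b : W ⟶ A), a ≫ q = b ≫ q → a ≫ c = b ≫ c) : ∃! d : B ⟶ T, q ≫ d = c := by
  have hsh := GrothendieckTopology.Subcanonical.isSheaf_of_isRepresentable (J := Scheme.fppfTopology.{u})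
    (yoneda.obj T.left) _ hq
  have key : ∀ {Z : Scheme.{u}} (w w' : Z ⟶ A.left), w ≫ q.left = w' ≫ q.left → w ≫ c.left = w' ≫ c.left := by
    intro Z w w' e
    let W : Over S := Over.mk (w ≫ A.hom)
    let b : W ⟶ A := Over.homMk w' (by
      show w' ≫ A.hom = w ≫ A.hom
      rw [← Over.w q, ← Category.assoc, ← e, Category.assoc])
    exact congrArg (fun t => t.left) (hc W (Over.homMk w) b (Over.OverMorphism.ext e))
  have hex : ∀ {Z : Scheme.{u}} {g : Z ⟶ B.left}, Sieve.generate (Presieve.singleton q.left) g →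
      ∃ w : Z ⟶ A.left, w ≫ q.left = g := by
    rintro Z g ⟨_, w, _, ⟨⟩, e⟩
    exact ⟨w, e⟩
  let x : Presieve.FamilyOfElements (yoneda.obj T.left)
      (Sieve.generate (Presieve.singleton q.left) : Presieve B.left) := fun Z g hg => (hex hg).choose ≫ c.left
  have hx : x.Compatible := by
    rw [Presieve.compatible_iff_sieveCompatible]
    intro Y Z g h hg
    show (hex (Sieve.downward_closed _ hg h)).choose ≫ c.left = h ≫ (hex hg).choose ≫ c.left
    rw [← Category.assoc]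
    apply key
    rw [(hex (Sieve.downward_closed _ hg h)).choose_spec, Category.assoc, (hex hg).choose_spec]
  obtain ⟨t, ht, hu⟩ := hsh x hx
  have hqt : q.left ≫ t = c.left := by
    refine (ht q.left ⟨A.left, 𝟙 _, q.left, Presieve.singleton.mk, Category.id_comp _⟩).trans ?_
    refine (key _ (𝟙 A.left) ?_).trans (Category.id_comp _)
    rw [(hex _).choose_spec, Category.id_comp]
    exact ⟨A.left, 𝟙 _, q.left, Presieve.singleton.mk, Category.id_comp _⟩
  have hepi : ∀ {Q : Scheme.{u}} (s s' : B.left ⟶ Q), q.left ≫ s = q.left ≫ s' → s = s' := by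
    intro Q s s' e
    have hshQ := GrothendieckTopology.Subcanonical.isSheaf_of_isRepresentable (J := Scheme.fppfTopology.{u})
      (yoneda.obj Q) _ hq
    refine hshQ.isSeparatedFor.ext fun Z g hg => ?_
    obtain ⟨w, rfl⟩ := hex hg
    show (w ≫ q.left) ≫ s = (w ≫ q.left) ≫ s'
    rw [Category.assoc, Category.assoc, e]
  have hw : t ≫ T.hom = B.hom := hepi _ _ (by
    rw [← Category.assoc, hqt, Over.w c, Over.w q])
  exact ⟨Over.homMk t hw, Over.OverMorphism.ext hqt, fun d hd =>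
    Over.OverMorphism.ext (hepi _ _ ((congrArg (fun t => t.left) hd).trans hqt.symm))⟩

theorem cancel {A B : Over S} {q : A ⟶ B} (hq : LocSplit q) {T : Over S} {d d' : B ⟶ T}
    (h : q ≫ d = q ≫ d') : d = d' :=
  (existsUnique_desc hq (q ≫ d) (fun W a b e => by rw [← Category.assoc, e, Category.assoc])).unique rfl h.symm

section Extension

/-- Central factors drop out of commutators. -/
theorem commutator_mul_central {M : Type*} [Group M] (a b p q : M) (hp : ∀ y, p * y = y * p)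
    (hq : ∀ y, q * y = y * q) : a * p * (b * q) * (a * p)⁻¹ * (b * q)⁻¹ = a * b * a⁻¹ * b⁻¹ := by
  calc a * p * (b * q) * (a * p)⁻¹ * (b * q)⁻¹ = a * (p * (b * q)) * p⁻¹ * a⁻¹ * q⁻¹ * b⁻¹ := by group
    _ = a * b * (q * a⁻¹) * q⁻¹ * b⁻¹ := by rw [hp (b * q)]; group
    _ = a * b * a⁻¹ * b⁻¹ := by rw [hq a⁻¹]; group

variable {P G E : Over S} [GrpObj P] [GrpObj G] [GrpObj E] [IsCommMonObj G] (u : G ⟶ E) (v : E ⟶ P)

theorem points_ker (hex : NonAbH1.IsExactSeq Scheme.fppfPrecoverage u v) {T : Over S} (y : T ⟶ E)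
    (hy : y ≫ v = 1) : ∃! g : T ⟶ G, g ≫ u = y := by
  obtain ⟨hu, hv, huv, hsq, -⟩ := hex
  haveI := hu
  haveI := hv
  have e : (1 : T ⟶ E) ≫ v = y ≫ v := by rw [MonObj.one_comp, hy]
  have hl : ∀ g : T ⟶ G, lift (1 : T ⟶ E) g ≫ (E ◁ u) ≫ μ[E] = g ≫ u := fun g => by
    rw [lift_whiskerLeft_assoc, ← Hom.mul_def, one_mul]
  obtain ⟨l, hl₁, hl₂⟩ : ∃ l : T ⟶ E ⊗ G, l ≫ fst E G = 1 ∧ l ≫ (E ◁ u) ≫ μ[E] = y :=
    ⟨hsq.lift 1 y e, hsq.lift_fst _ _ _, hsq.lift_snd _ _ _⟩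
  have hl' : l = lift 1 (l ≫ snd E G) := by
    apply CartesianMonoidalCategory.hom_ext <;> simp [hl₁]
  refine ⟨l ≫ snd E G, ?_, fun g hg => ?_⟩
  · show (l ≫ snd E G) ≫ u = y
    rw [← hl (l ≫ snd E G), ← hl', hl₂]
  · have : lift (1 : T ⟶ E) g = l := by
      apply hsq.hom_ext
      · rw [hl₁, lift_fst]
      · rw [hl₂, hl, hg]
    rw [← this, lift_snd]

theorem exists_translate (hex : NonAbH1.IsExactSeq Scheme.fppfPrecoverage u v) {T : Over S} (x x' : T ⟶ E)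
    (h : x ≫ v = x' ≫ v) : ∃ g : T ⟶ G, x' = x * (g ≫ u) := by
  haveI := hex.2.1
  obtain ⟨g, hg, -⟩ := points_ker u v hex (x⁻¹ * x') (by rw [MonObj.mul_comp, GrpObj.inv_comp, h, inv_mul_cancel])
  have hg' : g ≫ u = x⁻¹ * x' := hg
  exact ⟨g, by rw [hg', mul_inv_cancel_left]⟩

theorem central (hex : NonAbH1.IsExactSeq Scheme.fppfPrecoverage u v)
    (hPG : ∀ f : P ⊗ G ⟶ G, lift (𝟙 P) (toUnit P ≫ η[G]) ≫ f = 1 → lift (toUnit G ≫ η[P]) (𝟙 G) ≫ f = 1 → f = 1)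
    {T : Over S} (g : T ⟶ G) (x : T ⟶ E) : (g ≫ u) * x = x * (g ≫ u) := by
  haveI := hex.1
  haveI := hex.2.1
  have huv : u ≫ v = 1 := hex.2.2.1
  have hv : LocSplit v := locSplit_of_locallyTrivial v hex.2.2.2.2
  let c : E ⊗ G ⟶ E := fst E G * (snd E G ≫ u) * (fst E G)⁻¹ * (snd E G ≫ u)⁻¹
  have hcv : c ≫ v = 1 := by
    simp only [c, MonObj.mul_comp, GrpObj.inv_comp, Category.assoc, huv, MonObj.comp_one]
    simp
  obtain ⟨c₀, hc₀, -⟩ := points_ker u v hex c hcv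
  have hc₀' : c₀ ≫ u = c := hc₀
  have hpt : ∀ {W : Over S} (a : W ⟶ E) (b : W ⟶ G),
      lift a b ≫ c = a * (b ≫ u) * a⁻¹ * (b ≫ u)⁻¹ := fun a b => by
    simp only [c, MonObj.comp_mul, GrpObj.comp_inv, lift_fst, lift_snd_assoc]
  have hmono : ∀ {W : Over S} (a b : W ⟶ G), a ≫ u = b ≫ u → a = b := fun a b e =>
    (points_ker u v hex (a ≫ u) (by rw [Category.assoc, huv, MonObj.comp_one])).unique rfl e.symm
  have hcompat : ∀ (W : Over S) (a b : W ⟶ E ⊗ G), a ≫ (v ⊗ₘ 𝟙 G) = b ≫ (v ⊗ₘ 𝟙 G) → a ≫ c₀ = b ≫ c₀ := by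
    intro W a b e
    apply hmono
    rw [Category.assoc, Category.assoc, hc₀']
    obtain ⟨a₁, a₂, rfl⟩ : ∃ a₁ a₂, a = lift a₁ a₂ :=
      ⟨a ≫ fst _ _, a ≫ snd _ _, by apply CartesianMonoidalCategory.hom_ext <;> simp⟩
    obtain ⟨b₁, b₂, rfl⟩ : ∃ b₁ b₂, b = lift b₁ b₂ :=
      ⟨b ≫ fst _ _, b ≫ snd _ _, by apply CartesianMonoidalCategory.hom_ext <;> simp⟩
    have e₁ : a₁ ≫ v = b₁ ≫ v := by simpa using congrArg (· ≫ fst _ _) e
    have e₂ : a₂ = b₂ := by simpa using congrArg (· ≫ snd _ _) e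
    subst e₂
    obtain ⟨h, rfl⟩ := exists_translate u v hex a₁ b₁ e₁
    rw [hpt, hpt]
    have hcomm : (h ≫ u) * (a₂ ≫ u) = (a₂ ≫ u) * (h ≫ u) := by
      rw [← MonObj.mul_comp, ← MonObj.mul_comp, mul_comm]
    rw [mul_inv_rev, show a₁ * (h ≫ u) * (a₂ ≫ u) * ((h ≫ u)⁻¹ * a₁⁻¹) =
        a₁ * ((h ≫ u) * (a₂ ≫ u) * (h ≫ u)⁻¹) * a₁⁻¹ by group, hcomm, mul_inv_cancel_right]
  obtain ⟨f, hf, -⟩ := existsUnique_desc (locSplit_tensor hv (locSplit_id G)) c₀ hcompat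
  have hf' : (v ⊗ₘ 𝟙 G) ≫ f = c₀ := hf
  have hf1 : f = 1 := by
    refine hPG f (cancel hv (hmono _ _ ?_)) (hmono _ _ ?_)
    · have : v ≫ lift (𝟙 P) (toUnit P ≫ η[G]) = lift (𝟙 E) (1 : E ⟶ G) ≫ (v ⊗ₘ 𝟙 G) := by
        apply CartesianMonoidalCategory.hom_ext <;> simp [Hom.one_def]
      rw [MonObj.comp_one, ← Category.assoc v, this]
      simp only [Category.assoc, hf', MonObj.one_comp]
      rw [hc₀', hpt, MonObj.one_comp]
      group
    · have : lift (toUnit G ≫ η[P]) (𝟙 G) = lift (1 : G ⟶ E) (𝟙 G) ≫ (v ⊗ₘ 𝟙 G) := by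
        apply CartesianMonoidalCategory.hom_ext <;> simp [← Hom.one_def, MonObj.one_comp]
      rw [this]
      simp only [Category.assoc, hf', MonObj.one_comp]
      rw [hc₀', hpt]
      group
  have : c = 1 := by rw [← hc₀', ← hf', hf1, MonObj.comp_one, MonObj.one_comp]
  have h2 : lift x g ≫ c = 1 := by rw [this, MonObj.comp_one]
  rw [hpt, mul_inv_eq_one, mul_inv_eq_iff_eq_mul] at h2
  exact h2.symm

theorem commutative (hex : NonAbH1.IsExactSeq Scheme.fppfPrecoverage u v)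
    (hc : ∀ (T : Over S) (g : T ⟶ G) (x : T ⟶ E), (g ≫ u) * x = x * (g ≫ u)) [IsCommMonObj P]
    (hPP : ∀ f : P ⊗ P ⟶ G, lift (𝟙 P) (toUnit P ≫ η[P]) ≫ f = 1 → lift (toUnit P ≫ η[P]) (𝟙 P) ≫ f = 1 → f = 1) :
    IsCommMonObj E := by
  haveI := hex.1
  haveI := hex.2.1
  have huv : u ≫ v = 1 := hex.2.2.1
  have hv : LocSplit v := locSplit_of_locallyTrivial v hex.2.2.2.2
  let c : E ⊗ E ⟶ E := fst E E * snd E E * (fst E E)⁻¹ * (snd E E)⁻¹
  have hcv : c ≫ v = 1 := by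
    simp only [c, MonObj.mul_comp, GrpObj.inv_comp]
    rw [mul_comm (fst E E ≫ v) (snd E E ≫ v), mul_inv_cancel_right, mul_inv_cancel]
  obtain ⟨c₀, hc₀, -⟩ := points_ker u v hex c hcv
  have hc₀' : c₀ ≫ u = c := hc₀
  have hpt : ∀ {W : Over S} (a b : W ⟶ E), lift a b ≫ c = a * b * a⁻¹ * b⁻¹ := fun a b => by
    simp only [c, MonObj.comp_mul, GrpObj.comp_inv, lift_fst, lift_snd]
  have hmono : ∀ {W : Over S} (a b : W ⟶ G), a ≫ u = b ≫ u → a = b := fun a b e =>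
    (points_ker u v hex (a ≫ u) (by rw [Category.assoc, huv, MonObj.comp_one])).unique rfl e.symm
  have hcompat : ∀ (W : Over S) (a b : W ⟶ E ⊗ E), a ≫ (v ⊗ₘ v) = b ≫ (v ⊗ₘ v) → a ≫ c₀ = b ≫ c₀ := by
    intro W a b e
    apply hmono
    rw [Category.assoc, Category.assoc, hc₀']
    obtain ⟨a₁, a₂, rfl⟩ : ∃ a₁ a₂, a = lift a₁ a₂ :=
      ⟨a ≫ fst _ _, a ≫ snd _ _, by apply CartesianMonoidalCategory.hom_ext <;> simp⟩
    obtain ⟨b₁, b₂, rfl⟩ : ∃ b₁ b₂, b = lift b₁ b₂ :=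
      ⟨b ≫ fst _ _, b ≫ snd _ _, by apply CartesianMonoidalCategory.hom_ext <;> simp⟩
    have e₁ : a₁ ≫ v = b₁ ≫ v := by simpa using congrArg (· ≫ fst _ _) e
    have e₂ : a₂ ≫ v = b₂ ≫ v := by simpa using congrArg (· ≫ snd _ _) e
    obtain ⟨h, rfl⟩ := exists_translate u v hex a₁ b₁ e₁
    obtain ⟨h', rfl⟩ := exists_translate u v hex a₂ b₂ e₂
    rw [hpt, hpt]
    exact (commutator_mul_central a₁ a₂ (h ≫ u) (h' ≫ u) (hc W h) (hc W h')).symm
  obtain ⟨f, hf, -⟩ := existsUnique_desc (locSplit_tensor hv hv) c₀ hcompat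
  have hf' : (v ⊗ₘ v) ≫ f = c₀ := hf
  have hf1 : f = 1 := by
    refine hPP f (cancel hv (hmono _ _ ?_)) (cancel hv (hmono _ _ ?_))
    · have : v ≫ lift (𝟙 P) (toUnit P ≫ η[P]) = lift (𝟙 E) (1 : E ⟶ E) ≫ (v ⊗ₘ v) := by
        apply CartesianMonoidalCategory.hom_ext <;> simp [← Hom.one_def, MonObj.one_comp, MonObj.comp_one]
      rw [MonObj.comp_one, ← Category.assoc v, this]
      simp only [Category.assoc, MonObj.one_comp]
      rw [← Category.assoc (v ⊗ₘ v), hf', hc₀', hpt]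
      group
    · have : v ≫ lift (toUnit P ≫ η[P]) (𝟙 P) = lift (1 : E ⟶ E) (𝟙 E) ≫ (v ⊗ₘ v) := by
        apply CartesianMonoidalCategory.hom_ext <;> simp [← Hom.one_def, MonObj.one_comp, MonObj.comp_one]
      rw [MonObj.comp_one, ← Category.assoc v, this]
      simp only [Category.assoc, MonObj.one_comp]
      rw [← Category.assoc (v ⊗ₘ v), hf', hc₀', hpt]
      group
  have h1 : c = 1 := by rw [← hc₀', ← hf', hf1, MonObj.comp_one, MonObj.one_comp]
  have h2 : fst E E * snd E E = snd E E * fst E E := by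
    simpa [c, mul_inv_eq_one, mul_inv_eq_iff_eq_mul] using h1
  refine ⟨?_⟩
  rw [MonObj.mul_eq_mul, MonObj.comp_mul]
  simp [h2]

end Extension

end GrothLib.GrpExt
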